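import Mathlib.RingTheory.Flat.Tensor
import Mathlib.RingTheory.Finiteness.Descent
import Mathlib.RingTheory.Etale.Descent
import Mathlib.RingTheory.Smooth.Fiber
import Groth.Prelude.Def_Pi1

universe u

open scoped TensorProduct

namespace Groth.Agent.UnivInj83

open LinearMap

variable {R S : Type u} [CommRing R] [CommRing S] [Algebra R S]

lemma eq_zero_of_one_tmul_eq_zero (h : Pi1.UnivInjective R S) {M : Type u} [AddCommGroup M]
    [Module R M] {x : M} (hx : (1 : S) ⊗ₜ[R] x = 0) : x = 0 := by
  have h1 : x ⊗ₜ[R] (1 : S) = 0 := by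
    simpa using congrArg (TensorProduct.comm R S M) hx
  have h2 : x ⊗ₜ[R] (1 : R) = 0 := by
    apply h M
    rw [LinearMap.lTensor_tmul, map_zero, Algebra.linearMap_apply, map_one, h1]
  simpa using congrArg (TensorProduct.rid R M) h2

lemma subsingleton_of_tensor (h : Pi1.UnivInjective R S) (M : Type u) [AddCommGroup M]
    [Module R M] [Subsingleton (S ⊗[R] M)] : Subsingleton M :=
  subsingleton_iff_forall_eq 0 |>.mpr fun x ↦
    eq_zero_of_one_tmul_eq_zero h (Subsingleton.elim _ _)

lemma surjective_of_lTensor (h : Pi1.UnivInjective R S) {M N : Type u} [AddCommGroup M]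
    [Module R M] [AddCommGroup N] [Module R N] (f : M →ₗ[R] N)
    (hf : Function.Surjective (f.lTensor S)) : Function.Surjective f := by
  rw [← LinearMap.range_eq_top, ← Submodule.Quotient.subsingleton_iff]
  have : Subsingleton (S ⊗[R] (N ⧸ LinearMap.range f)) := by
    refine subsingleton_iff_forall_eq 0 |>.mpr fun x ↦ ?_
    obtain ⟨y, rfl⟩ := LinearMap.lTensor_surjective S (Submodule.mkQ_surjective _) x
    obtain ⟨z, rfl⟩ := hf y
    rw [← LinearMap.comp_apply, ← LinearMap.lTensor_comp, LinearMap.range_mkQ_comp]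
    simp
  exact subsingleton_of_tensor h _

lemma injective_of_lTensor (h : Pi1.UnivInjective R S) {M N : Type u} [AddCommGroup M]
    [Module R M] [AddCommGroup N] [Module R N] (f : M →ₗ[R] N)
    (hf : Function.Injective (f.lTensor S)) : Function.Injective f := by
  refine (injective_iff_map_eq_zero _).mpr fun x hx ↦ eq_zero_of_one_tmul_eq_zero h (hf ?_)
  simp [hx]

lemma finite_descends (h : Pi1.UnivInjective R S) (M : Type u) [AddCommGroup M] [Module R M]
    [Module.Finite S (S ⊗[R] M)] : Module.Finite R M := by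
  classical
  obtain ⟨n, s, hs⟩ := Module.Finite.exists_fin (R := S) (M := S ⊗[R] M)
  choose k t m hm using fun i : Fin n ↦ TensorProduct.exists_sum_tmul_eq (s i)
  let f₀ : ((Σ i, Fin (k i)) → R) →ₗ[R] M := (Pi.basisFun R _).constr R fun ⟨i, j⟩ ↦ m i j
  apply Module.Finite.of_surjective f₀
  apply surjective_of_lTensor h
  have : Function.Surjective (TensorProduct.AlgebraTensorModule.lTensor S S f₀) := by
    rw [← LinearMap.range_eq_top, eq_top_iff, ← hs, Submodule.span_le, Set.range_subset_iff]
    intro i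
    use ∑ (j : Fin (k i)), t i j ⊗ₜ Pi.basisFun R _ ⟨i, j⟩
    simp [f₀, -Pi.basisFun_equivFun, -Pi.basisFun_apply, hm i]
  exact this

lemma finitePresentation_descends (h : Pi1.UnivInjective R S) (M : Type u) [AddCommGroup M]
    [Module R M] [Module.FinitePresentation S (S ⊗[R] M)] : Module.FinitePresentation R M := by
  classical
  have := finite_descends h M
  obtain ⟨n, f, hf⟩ := Module.Finite.exists_fin' R M
  let F : S ⊗[R] (Fin n → R) →ₗ[S] S ⊗[R] M := TensorProduct.AlgebraTensorModule.lTensor S S f
  have hF : Function.Surjective F := LinearMap.lTensor_surjective S hf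
  obtain ⟨T, hT⟩ := Module.FinitePresentation.fg_ker F hF
  have hTk : ∀ t ∈ T, t ∈ LinearMap.range ((LinearMap.ker f).subtype.lTensor S) := by
    intro t ht
    have ht' : F t = 0 := LinearMap.mem_ker.mp (hT ▸ Submodule.subset_span ht)
    exact (lTensor_exact S (LinearMap.exact_subtype_ker_map f) hf t).mp ht'
  choose y hy using fun t : T ↦ hTk t t.2
  choose K' hK' hy' using fun t : T ↦ TensorProduct.exists_finite_submodule_right_of_setFinite
    {y t} (Set.finite_singleton _)
  let K₀ : Submodule R (Fin n → R) := (⨆ t, K' t).map (LinearMap.ker f).subtype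
  have hK₀ : K₀.FG := Submodule.FG.map _ (Submodule.fg_iSup _ fun t ↦ (Module.Finite.iff_fg).mp (hK' t))
  have hle : K₀ ≤ LinearMap.ker f := Submodule.map_subtype_le _ _
  let g : ((Fin n → R) ⧸ K₀) →ₗ[R] M := K₀.liftQ f hle
  have hginj : Function.Injective g := by
    apply injective_of_lTensor h
    refine (injective_iff_map_eq_zero _).mpr fun x hx ↦ ?_
    obtain ⟨z, rfl⟩ := LinearMap.lTensor_surjective S (Submodule.mkQ_surjective K₀) x
    rw [← LinearMap.comp_apply, ← LinearMap.lTensor_comp, Submodule.liftQ_mkQ] at hx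
    have hz : z ∈ Submodule.span S (T : Set (S ⊗[R] (Fin n → R))) := by
      rw [hT]; exact hx
    let P : S ⊗[R] (Fin n → R) →ₗ[S] S ⊗[R] ((Fin n → R) ⧸ K₀) :=
      TensorProduct.AlgebraTensorModule.lTensor S S K₀.mkQ
    suffices Submodule.span S (T : Set (S ⊗[R] (Fin n → R))) ≤ LinearMap.ker P from this hz
    rw [Submodule.span_le]
    intro t ht
    obtain ⟨w, hw⟩ := hy' ⟨t, ht⟩ rfl
    have e : t = ((LinearMap.ker f).subtype ∘ₗ (K' ⟨t, ht⟩).subtype).lTensor S w := by
      rw [LinearMap.lTensor_comp, LinearMap.comp_apply, hw, hy]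
    have e2 : K₀.mkQ ∘ₗ (LinearMap.ker f).subtype ∘ₗ (K' ⟨t, ht⟩).subtype = 0 := by
      refine LinearMap.ext fun v ↦ ?_
      exact (Submodule.Quotient.mk_eq_zero K₀).mpr
        ⟨v.1, le_iSup K' ⟨t, ht⟩ v.2, rfl⟩
    change P t = 0
    rw [e]
    change (K₀.mkQ.lTensor S) _ = 0
    rw [← LinearMap.comp_apply, ← LinearMap.lTensor_comp, e2]
    simp
  have hgsurj : Function.Surjective g := fun x ↦ by
    obtain ⟨v, rfl⟩ := hf x
    exact ⟨K₀.mkQ v, rfl⟩
  have : Module.FinitePresentation R ((Fin n → R) ⧸ K₀) :=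
    Module.finitePresentation_of_surjective K₀.mkQ (Submodule.mkQ_surjective _)
      (by rwa [Submodule.ker_mkQ])
  exact Module.finitePresentation_of_surjective g hgsurj
    (by rw [LinearMap.ker_eq_bot.mpr hginj]; exact Submodule.fg_bot)

/-- The character valued functional used to split off the unit. -/
lemma exists_section (h : Pi1.UnivInjective R S) :
    ∃ σ : CharacterModule R →ₗ[R] CharacterModule S, ∀ c, σ c 1 = c 1 := by
  obtain ⟨ψ, hψ⟩ := CharacterModule.dual_surjective_of_injective
    (LinearMap.lTensor (CharacterModule R) (Algebra.linearMap R S)) (h (CharacterModule R))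
    (CharacterModule.uncurry (LinearMap.id : CharacterModule R →ₗ[R] CharacterModule R))
  refine ⟨CharacterModule.curry ψ, fun c ↦ ?_⟩
  have h1 := DFunLike.congr_fun hψ (c ⊗ₜ (1 : R))
  change ψ (c ⊗ₜ[R] algebraMap R S 1) = c 1 at h1
  rw [map_one] at h1
  exact h1

set_option maxHeartbeats 1000000 in
lemma flat_descends (h : Pi1.UnivInjective R S) (M : Type u) [AddCommGroup M] [Module R M]
    [Module.Flat S (S ⊗[R] M)] : Module.Flat R M := by
  obtain ⟨σ, hσ⟩ := exists_section h
  rw [Module.Flat.iff_rTensor_injective']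
  intro I
  refine (injective_iff_map_eq_zero _).mpr fun x hx ↦ ?_
  refine CharacterModule.eq_zero_of_character_apply fun g ↦ ?_
  let act : ↥I ⊗[R] M →ₗ[R] CharacterModule R :=
    { toFun := fun y ↦ CharacterModule.dual (LinearMap.toSpanSingleton R _ y) g
      map_add' := fun y y' ↦ DFunLike.ext _ _ fun r ↦ by
        change g (r • (y + y')) = g (r • y) + g (r • y')
        rw [smul_add, map_add]
      map_smul' := fun a y ↦ DFunLike.ext _ _ fun r ↦ by
        change g (r • a • y) = g ((a • r) • y)
        rw [smul_smul, smul_eq_mul, mul_comm] }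
  let G' : CharacterModule ((↥I ⊗[R] M) ⊗[R] S) := CharacterModule.uncurry (σ ∘ₗ act)
  let G : CharacterModule (S ⊗[R] (↥I ⊗[R] M)) :=
    CharacterModule.dual (TensorProduct.comm R S (↥I ⊗[R] M)).toLinearMap G'
  have hG : ∀ s y, G (s ⊗ₜ y) = σ (act y) s := fun _ _ ↦ rfl
  let e := TensorProduct.AlgebraTensorModule.distribBaseChange R S ↥I M
  let φ : S ⊗[R] ↥I →ₗ[S] S ⊗[R] R := TensorProduct.AlgebraTensorModule.lTensor S S I.subtype
  have key : φ.rTensor (S ⊗[R] M) (e (1 ⊗ₜ x)) =
      TensorProduct.AlgebraTensorModule.distribBaseChange R S R M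
        (1 ⊗ₜ I.subtype.rTensor M x) := by
    clear hx
    induction x using TensorProduct.induction_on with
    | zero => simp
    | add a b ha hb => simp only [TensorProduct.tmul_add, map_add, ha, hb]
    | tmul a m => simp [e, φ]
  rw [hx, TensorProduct.tmul_zero, map_zero] at key
  have hex : Function.Exact ((LinearMap.ker φ).subtype.rTensor (S ⊗[R] M))
      (φ.rTensor (S ⊗[R] M)) :=
    by
      have := @Module.Flat.rTensor_exact S (S ⊗[R] M) _ _ _ ‹_› ↥(LinearMap.ker φ) (S ⊗[R] ↥I)
        (S ⊗[R] R) _ _ _ _ _ _ (LinearMap.ker φ).subtype φ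
      exact this (LinearMap.exact_subtype_ker_map φ)
  obtain ⟨ξ, hξ⟩ := (hex (e (1 ⊗ₜ x))).mp key
  have hxG : g x = G (1 ⊗ₜ x) := by
    rw [hG, hσ]
    change g x = g ((1 : R) • x)
    rw [one_smul]
  rw [hxG, ← e.symm_apply_apply (1 ⊗ₜ x), ← hξ]
  clear hξ key hxG hx x
  induction ξ using TensorProduct.induction_on with
  | zero => simp
  | add a b ha hb => simp only [map_add, ha, hb, add_zero]
  | tmul k y =>
    obtain ⟨k, hk⟩ := k
    rw [LinearMap.rTensor_tmul, Submodule.subtype_apply]
    induction y using TensorProduct.induction_on with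
    | zero => simp
    | add a b ha hb => simp only [TensorProduct.tmul_add, map_add, ha, hb, add_zero]
    | tmul t m =>
      have e1 : k ⊗ₜ[S] (t ⊗ₜ[R] m) = (t • k) ⊗ₜ[S] ((1 : S) ⊗ₜ[R] m) := by
        rw [TensorProduct.smul_tmul, TensorProduct.smul_tmul', smul_eq_mul, mul_one]
      rw [e1]
      let gm : CharacterModule ↥I := CharacterModule.dual ((TensorProduct.mk R ↥I M).flip m) g
      obtain ⟨gt, hgt⟩ := CharacterModule.dual_surjective_of_injective I.subtype
        Subtype.val_injective gm
      have tau : ∀ z : S ⊗[R] ↥I,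
          G (e.symm (z ⊗ₜ[S] ((1 : S) ⊗ₜ[R] m))) = σ gt (TensorProduct.rid R S (φ z)) := by
        intro z
        induction z using TensorProduct.induction_on with
        | zero => simp
        | add a b ha hb => simp only [TensorProduct.add_tmul, map_add, ha, hb]
        | tmul s i =>
          have ea : act (i ⊗ₜ m) = (i : R) • gt := DFunLike.ext _ _ fun r ↦ by
            rw [CharacterModule.smul_apply, smul_eq_mul]
            change g (r • (i ⊗ₜ m)) = gt ((i : R) * r)
            rw [TensorProduct.smul_tmul']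
            have := DFunLike.congr_fun hgt (r • i)
            change gt (r * (i : R)) = g ((r • i) ⊗ₜ m) at this
            rw [← this, mul_comm]
          rw [TensorProduct.AlgebraTensorModule.distribBaseChange_symm_tmul, mul_one, hG, ea,
            map_smul]
          simp [φ]
      rw [tau, map_smul, LinearMap.mem_ker.mp hk]
      simp

lemma finiteType_descends (h : Pi1.UnivInjective R S) (A : Type u) [CommRing A] [Algebra R A]
    [Algebra.FiniteType S (S ⊗[R] A)] : Algebra.FiniteType R A := by
  obtain ⟨s, hs⟩ := Algebra.FiniteType.out (R := S) (A := S ⊗[R] A)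
  have (x : s) := TensorProduct.exists_sum_tmul_eq x.1
  choose k t m hm using this
  let f : MvPolynomial (Σ x : s, Fin (k x)) R →ₐ[R] A := MvPolynomial.aeval (fun ⟨x, i⟩ ↦ m x i)
  apply Algebra.FiniteType.of_surjective f
  have hf : Function.Surjective (Algebra.TensorProduct.map (.id S S) f) := by
    rw [← AlgHom.range_eq_top, _root_.eq_top_iff, ← hs, Algebra.adjoin_le_iff]
    intro x hx
    let i : s := ⟨x, hx⟩
    use ∑ (j : Fin (k i)), t i j ⊗ₜ MvPolynomial.X ⟨i, j⟩
    simp [f, ← hm, i]
  exact surjective_of_lTensor h f.toLinearMap hf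

attribute [local instance] Algebra.TensorProduct.rightAlgebra in
lemma algFinitePresentation_descends (h : Pi1.UnivInjective R S) (A : Type u) [CommRing A]
    [Algebra R A] [Algebra.FinitePresentation S (S ⊗[R] A)] : Algebra.FinitePresentation R A := by
  classical
  have : Algebra.FiniteType R A := finiteType_descends h A
  rw [Algebra.FiniteType.iff_quotient_mvPolynomial''] at this
  obtain ⟨n, f, hf⟩ := this
  let fT := Algebra.TensorProduct.map (.id S S) f
  let J := RingHom.ker f.toRingHom
  have hker : J.map (algebraMap (MvPolynomial (Fin n) R) (S ⊗[R] MvPolynomial (Fin n) R))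
      = RingHom.ker fT := (Algebra.TensorProduct.lTensor_ker f hf).symm
  have hfg : (RingHom.ker fT).FG := by
    apply Algebra.FinitePresentation.ker_fG_of_surjective
    exact Algebra.FiniteType.baseChangeAux_surj S hf
  rw [← hker] at hfg
  obtain ⟨s', hs', hsm⟩ := (Submodule.fg_span_iff_fg_span_finset_subset
    (algebraMap (MvPolynomial (Fin n) R) (S ⊗[R] MvPolynomial (Fin n) R) ''
      (J : Set (MvPolynomial (Fin n) R)))).mp hfg
  obtain ⟨s, hs, rfl⟩ := Finset.subset_set_image_iff.mp hs'
  let J₀ : Ideal (MvPolynomial (Fin n) R) := Ideal.span s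
  have hle : J₀ ≤ J := Ideal.span_le.mpr hs
  let g : (MvPolynomial (Fin n) R ⧸ J₀) →ₐ[R] A := Ideal.Quotient.liftₐ J₀ f hle
  have hginj : Function.Injective g := by
    apply injective_of_lTensor h g.toLinearMap
    refine (injective_iff_map_eq_zero _).mpr fun x hx ↦ ?_
    obtain ⟨z, rfl⟩ := LinearMap.lTensor_surjective S
      (g := (Ideal.Quotient.mkₐ R J₀).toLinearMap) Ideal.Quotient.mk_surjective x
    have hz : z ∈ RingHom.ker fT := by
      rw [RingHom.mem_ker, ← hx, ← LinearMap.comp_apply, ← LinearMap.lTensor_comp]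
      rfl
    rw [← hker] at hz
    have hz' := hsm.le hz
    let π := Algebra.TensorProduct.map (AlgHom.id S S) (Ideal.Quotient.mkₐ R J₀)
    suffices _ ≤ RingHom.ker π from this hz'
    refine Ideal.span_le.mpr ?_
    intro w hw
    obtain ⟨a, ha, rfl⟩ := Finset.mem_image.mp hw
    change π ((1 : S) ⊗ₜ[R] a) = 0
    rw [Algebra.TensorProduct.map_tmul, Ideal.Quotient.mkₐ_eq_mk,
      Ideal.Quotient.eq_zero_iff_mem.mpr (Ideal.subset_span ha), TensorProduct.tmul_zero]
  have hgsurj : Function.Surjective g := Ideal.Quotient.lift_surjective_of_surjective _ _ hf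
  have : Algebra.FinitePresentation R (MvPolynomial (Fin n) R ⧸ J₀) :=
    Algebra.FinitePresentation.quotient ⟨s, rfl⟩
  exact Algebra.FinitePresentation.equiv (AlgEquiv.ofBijective g ⟨hginj, hgsurj⟩)

attribute [local instance] Algebra.TensorProduct.rightAlgebra in
lemma etale_descends (h : Pi1.UnivInjective R S) (A : Type u) [CommRing A]
    [Algebra R A] [Algebra.Etale S (S ⊗[R] A)] : Algebra.Etale R A := by
  have : Algebra.FinitePresentation R A := algFinitePresentation_descends h A
  have : Module.Flat R A := flat_descends h A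
  have : Algebra.FormallyUnramified R A := by
    constructor
    have : Subsingleton (S ⊗[R] Ω[A⁄R]) :=
      (KaehlerDifferential.tensorKaehlerEquivBase R S A (S ⊗[R] A)).subsingleton
    exact subsingleton_of_tensor h _
  exact Algebra.Etale.of_formallyUnramified_of_flat

end Groth.Agent.UnivInj83
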